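import Cfsg.Agent.H867.RC.Spor
import Cfsg.Agent.PLocal.OffenderStep
import Cfsg.Agent.SignalizersComponents.CoprimeGen
import Cfsg.Agent.Lib.MinNormalNonabelian

/-!
# S3509, Monster: covers with elements commuting with no involution (helper711)

`Cv Ω x y` : every point is fixed by `x` or by `y`.

`Loc Ω p R z` : `z` of order `p`, `R` a normal subgroup of `C(z)` of exponent `p` with `z` central in `R` and `[R, R] ≤ ⟨z⟩`,
and no cover `{e, x}` with `e ∈ R \ {1}` and `x` of order `p` commuting with `e`, not in `⟨e⟩`.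

* `ml` : no cover `{a, w}`, `a, w` of order `p` in `C(z)`, outside `R`, if `s a s⁻¹ = z a` for some `s ∈ R`;
* `pl` : no cover `{a, v}`, `v ≠ 1` in `C(a)`.
-/

set_option autoImplicit false
open Cfsg

namespace Cfsg.Agent.H711.MG

open MulAction Subgroup Cfsg.Agent.H106.RC

/-- every point is fixed by `x` or by `y` -/
def Cv {G : Type*} [Group G] (Ω : Type*) [MulAction G Ω] (x y : G) : Prop := ∀ ω : Ω, x • ω = ω ∨ y • ω = ω

section basic

variable {G Ω : Type*} [Group G] [MulAction G Ω]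

theorem Cv.symm {x y : G} (h : Cv Ω x y) : Cv Ω y x := fun ω => (h ω).symm

theorem Cv.conj {x y : G} (h : Cv Ω x y) (g : G) : Cv Ω (g * x * g⁻¹) (g * y * g⁻¹) := by
  intro ω
  rcases h (g⁻¹ • ω) with h1 | h1
  · left; rw [mul_smul, mul_smul, h1, smul_inv_smul]
  · right; rw [mul_smul, mul_smul, h1, smul_inv_smul]

/-- replacement by an element `r y r⁻¹ y⁻¹` -/
theorem Cv.comm {x y r : G} (h : Cv Ω x y) (hr : r * x = x * r) : Cv Ω x (r * y * r⁻¹ * y⁻¹) := by
  refine H867.RC.pair_mv h (mul_mem (subset_closure ⟨r, hr, rfl⟩) (inv_mem (subset_closure ⟨1, by simp, by simp⟩)))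

theorem Cv.single {x y : G} (h : Cv Ω x y) (hxy : x ∈ zpowers y) (hF : ∀ t : G, t ≠ 1 → ∃ ω : Ω, t • ω ≠ ω) : x = 1 := by
  by_contra hx
  obtain ⟨ω, hω⟩ := hF x hx
  rcases h ω with h1 | h1
  · exact hω h1
  · exact hω ((zpowers_le.2 (show y ∈ stabilizer G ω from h1)) hxy)

end basic

/-- local data -/
structure Loc {G : Type*} [Group G] (Ω : Type*) [MulAction G Ω] (p : ℕ) (R : Subgroup G) (z : G) : Prop where
  z_mem : z ∈ R
  z_ne : z ≠ 1
  cz : ∀ r ∈ R, r * z = z * r
  comm : ∀ r ∈ R, ∀ s ∈ R, ∃ k : ℤ, r * s * r⁻¹ = s * z ^ k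
  exp : ∀ r ∈ R, r ^ p = 1
  norm : ∀ c, c * z = z * c → ∀ r ∈ R, c * r * c⁻¹ ∈ R
  m2 : ∀ e ∈ R, e ≠ 1 → ∀ x : G, x ^ p = 1 → e * x = x * e → x ∉ zpowers e → ¬ Cv Ω e x

section ml

variable {G Ω : Type*} [Group G] [MulAction G Ω]

/-- the group generated by an element of prime order -/
theorem mem_zpowers_of {p : ℕ} (hp : p.Prime) {x y : G} (hy : y ^ p = 1) (hx : x ∈ zpowers y) (hx1 : x ≠ 1) :
    y ∈ zpowers x := by
  have : Fact p.Prime := ⟨hp⟩
  have hyo : orderOf y = p := by
    refine orderOf_eq_prime hy ?_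
    rintro rfl
    rw [zpowers_one_eq_bot, mem_bot] at hx
    exact hx1 hx
  have hxp : x ^ p = 1 := by
    obtain ⟨k, rfl⟩ := mem_zpowers_iff.1 hx
    rw [← zpow_natCast, ← zpow_mul, mul_comm, zpow_mul, zpow_natCast, hy, one_zpow]
  have hxo : orderOf x = p := orderOf_eq_prime hxp hx1
  have hf : Finite (zpowers y) := by
    rw [← SetLike.mem_coe] at hx
    exact (isOfFinOrder_iff_pow_eq_one.2 ⟨p, hp.pos, hy⟩).finite_zpowers
  have h1 : zpowers x = zpowers y := by
    apply eq_of_le_of_card_ge (zpowers_le.2 hx)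
    rw [Nat.card_zpowers, Nat.card_zpowers, hxo, hyo]
  rw [h1]
  exact mem_zpowers y

/-- **main lemma** -/
theorem ml (hF : ∀ t : G, t ≠ 1 → ∃ ω : Ω, t • ω ≠ ω) {p : ℕ} (hp : p.Prime) (hp2 : p ≠ 2) {R : Subgroup G} {z : G}
    (h : Loc Ω p R z) {a w : G} (haw : a * w = w * a) (hap : a ^ p = 1) (haz : a * z = z * a) (hwp : w ^ p = 1)
    (hwz : w * z = z * w) (haR : a ∉ R) (hwR : w ∉ R) (hs : ∃ s ∈ R, s * a * s⁻¹ = z * a) : ¬ Cv Ω a w := by
  intro hc
  have hpf : Fact p.Prime := ⟨hp⟩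
  -- the two centralisers in `R` are equal
  have key : ∀ b c : G, b * c = c * b → b * z = z * b → c * z = z * c → b ∉ R → b ^ p = 1 → Cv Ω b c → ∀ r ∈ R,
      r * b = b * r → r * c = c * r := by
    intro b c hbc hbz hcz hbR hbp hcov r hr hrb
    by_contra hne
    have h1 : Cv Ω b (r * c * r⁻¹ * c⁻¹) := hcov.comm hrb
    have h2 : r * c * r⁻¹ * c⁻¹ ∈ R := by
      have e : r * c * r⁻¹ * c⁻¹ = r * (c * r⁻¹ * c⁻¹) := by group
      rw [e]
      exact mul_mem hr (h.norm c hcz _ (inv_mem hr))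
    refine h.m2 _ h2 ?_ b hbp ?_ ?_ h1.symm
    · intro h3
      apply hne
      rwa [mul_inv_eq_one, mul_inv_eq_iff_eq_mul] at h3
    · have hC : ∀ {u : G}, u ∈ centralizer ({b} : Set G) ↔ u * b = b * u := mem_centralizer_singleton_iff
      have hr' := hC.2 hrb
      have hc' := hC.2 hbc.symm
      exact hC.1 (mul_mem (mul_mem (mul_mem hr' hc') (inv_mem hr')) (inv_mem hc'))
    · intro h3
      exact hbR ((zpowers_le.2 h2) h3)
  obtain ⟨s, hsR, hs⟩ := hs
  -- `y`
  set y : G := s * w * s⁻¹ * w⁻¹ with hy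
  have hyR : y ∈ R := by
    have e : y = s * (w * s⁻¹ * w⁻¹) := by rw [hy]; group
    rw [e]
    exact mul_mem hsR (h.norm w hwz _ (inv_mem hsR))
  have hsw : s * w * s⁻¹ = y * w := by rw [hy]; group
  have hza : Commute z a := haz.symm
  have hzw : Commute z w := hwz.symm
  have hzs : Commute z s := (h.cz s hsR).symm
  have hzy : Commute z y := (h.cz y hyR).symm
  have hya : Commute y a := by
    have h1 : a⁻¹ * s * a = z * s := by
      calc a⁻¹ * s * a = a⁻¹ * (s * a * s⁻¹) * s := by group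
        _ = a⁻¹ * (z * a) * s := by rw [hs]
        _ = a⁻¹ * (a * z) * s := by rw [hza.eq]
        _ = z * s := by group
    have h2 : a⁻¹ * w * a = w := by
      calc a⁻¹ * w * a = a⁻¹ * (w * a) := by group
        _ = a⁻¹ * (a * w) := by rw [haw]
        _ = w := by group
    have h3 : a⁻¹ * y * a = y := by
      have e : a⁻¹ * y * a = (a⁻¹ * s * a) * (a⁻¹ * w * a) * (a⁻¹ * s * a)⁻¹ * (a⁻¹ * w * a)⁻¹ := by rw [hy]; group
      rw [e, h1, h2]
      calc z * s * w * (z * s)⁻¹ * w⁻¹ = z * (s * w) * (s⁻¹ * z⁻¹) * w⁻¹ := by group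
        _ = (s * w) * z * (s⁻¹ * z⁻¹) * w⁻¹ := by rw [(hzs.mul_right hzw).eq]
        _ = (s * w) * (z * s⁻¹) * z⁻¹ * w⁻¹ := by group
        _ = (s * w) * (s⁻¹ * z) * z⁻¹ * w⁻¹ := by rw [hzs.inv_right.eq]
        _ = y := by rw [hy]; group
    have h4 : y * a = a * (a⁻¹ * y * a) := by group
    rw [h3] at h4
    exact h4
  have hyw : Commute y w := key a w haw haz hwz haR hap hc y hyR hya.eq
  have hy1 : y ≠ 1 := by
    intro h1
    have h2 : s * w = w * s := by
      rw [h1, one_mul] at hsw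
      calc s * w = s * w * s⁻¹ * s := by group
        _ = w * s := by rw [hsw]
    have h3 : s * a = a * s := key w a haw.symm hwz haz hwR hwp hc.symm s hsR h2
    apply h.z_ne
    have h4 : z * a = a := by rw [← hs, h3]; group
    exact mul_eq_right.1 h4
  obtain ⟨k, hk⟩ := h.comm s hsR y hyR
  have hzp : z ^ p = 1 := h.exp z h.z_mem
  have hyp : y ^ p = 1 := h.exp y hyR
  have hzo : orderOf z = p := orderOf_eq_prime hzp h.z_ne
  -- `z ^ 2 ∈ B → z ∈ B`
  have sq : ∀ {u : G} (B : Subgroup G), u ^ p = 1 → u ^ 2 ∈ B → u ∈ B := by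
    intro u B hu hB
    obtain ⟨m, hm⟩ := hp.odd_of_ne_two hp2
    have h1 : u = (u ^ 2) ^ (m + 1) := by
      rw [← pow_mul, show 2 * (m + 1) = p + 1 by omega, pow_succ, hu, one_mul]
    rw [h1]
    exact pow_mem hB _
  -- the three conjugates of the cover
  have c1 : Cv Ω (z * a) (y * w) := by
    have := hc.conj s
    rwa [hs, hsw] at this
  have c2 : Cv Ω (z ^ 2 * a) (y * z ^ k * (y * w)) := by
    have h1 := c1.conj s
    have e1 : s * (z * a) * s⁻¹ = z ^ 2 * a := by
      calc s * (z * a) * s⁻¹ = (s * z) * a * s⁻¹ := by group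
        _ = z * (s * a * s⁻¹) := by rw [← hzs.eq]; group
        _ = z ^ 2 * a := by rw [hs, pow_two]; group
    have e2 : s * (y * w) * s⁻¹ = y * z ^ k * (y * w) := by
      calc s * (y * w) * s⁻¹ = (s * y * s⁻¹) * (s * w * s⁻¹) := by group
        _ = y * z ^ k * (y * w) := by rw [hk, hsw]
    rwa [e1, e2] at h1
  by_cases hk0 : z ^ k = 1
  · -- `z` and `y`
    rw [hk0, mul_one] at c2
    have hcov : Cv Ω z y := by
      intro ω
      by_contra hno
      push Not at hno
      obtain ⟨hz, hyω⟩ := hno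
      set B := stabilizer G ω with hB
      have m0 : a ∈ B ∨ w ∈ B := hc ω
      have m1 : z * a ∈ B ∨ y * w ∈ B := c1 ω
      have m2 : z ^ 2 * a ∈ B ∨ y * (y * w) ∈ B := c2 ω
      have hz' : z ∉ B := hz
      have hy' : y ∉ B := hyω
      have q : ∀ {u v : G}, u * v ∈ B → v ∈ B → u ∈ B := fun h1 h2 => by
        have := mul_mem h1 (inv_mem h2)
        rwa [mul_inv_cancel_right] at this
      rcases m0 with m0 | m0
      · rcases m1 with m1 | m1
        · exact hz' (q m1 m0)
        · rcases m2 with m2 | m2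
          · exact hz' (sq B hzp (q m2 m0))
          · exact hy' (q m2 m1)
      · rcases m1 with m1 | m1
        · rcases m2 with m2 | m2
          · rw [pow_two, mul_assoc] at m2
            exact hz' (q m2 m1)
          · rw [← mul_assoc, ← pow_two] at m2
            exact hy' (sq B hyp (q m2 m0))
        · exact hy' (q m1 m0)
    by_cases hyz : y ∈ zpowers z
    · exact hy1 (hcov.symm.single hyz hF)
    · exact h.m2 z h.z_mem h.z_ne y hyp hzy.eq hyz hcov
  · -- `z` and `e`
    obtain ⟨i, hi⟩ : ∃ i : ℤ, (z ^ k) ^ i = z := by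
      have h1 : z ∈ zpowers (z ^ k) := mem_zpowers_of hp hzp (zpow_mem (mem_zpowers z) k) hk0
      exact mem_zpowers_iff.1 h1
    set e : G := z ^ 2 * a * y ^ (2 * i) with he
    have hcov : Cv Ω z e := by
      intro ω
      by_contra hno
      push Not at hno
      obtain ⟨hz, heω⟩ := hno
      set B := stabilizer G ω with hB
      have m0 : a ∈ B ∨ w ∈ B := hc ω
      have m1 : z * a ∈ B ∨ y * w ∈ B := c1 ω
      have m2 : z ^ 2 * a ∈ B ∨ y * z ^ k * (y * w) ∈ B := c2 ω
      have hz' : z ∉ B := hz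
      have he' : e ∉ B := heω
      have q : ∀ {u v : G}, u * v ∈ B → v ∈ B → u ∈ B := fun h1 h2 => by
        have := mul_mem h1 (inv_mem h2)
        rwa [mul_inv_cancel_right] at this
      rcases m0 with m0 | m0
      · rcases m1 with m1 | m1
        · exact hz' (q m1 m0)
        · rcases m2 with m2 | m2
          · exact hz' (sq B hzp (q m2 m0))
          · -- `a`, `y z ^ k`
            apply he'
            have h1 : (y * z ^ k) ^ (2 * i) ∈ B := zpow_mem (q m2 m1) _
            have h2 : (y * z ^ k) ^ (2 * i) = z ^ 2 * y ^ (2 * i) := by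
              rw [(hzy.symm.zpow_right k).mul_zpow, mul_comm 2 i, zpow_mul (z ^ k), hi, mul_comm i 2,
                show z ^ (2 : ℤ) = z ^ 2 from zpow_ofNat z 2]
              exact ((hzy.pow_left 2).zpow_right _).eq.symm
            rw [h2] at h1
            have h3 : e = a * (z ^ 2 * y ^ (2 * i)) := by
              rw [he, ← mul_assoc, (hza.pow_left 2).eq]
            rw [h3]
            exact mul_mem m0 h1
      · rcases m1 with m1 | m1
        · rcases m2 with m2 | m2
          · rw [pow_two, mul_assoc] at m2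
            exact hz' (q m2 m1)
          · -- `z a`, `y z ^ k y`
            apply he'
            rw [← mul_assoc] at m2
            have h0 := q m2 m0
            have h1 : (y * z ^ k * y) ^ i ∈ B := zpow_mem h0 _
            have h2 : (y * z ^ k * y) ^ i = z * y ^ (2 * i) := by
              have e1 : y * z ^ k * y = z ^ k * y ^ (2 : ℤ) := by
                rw [← (hzy.zpow_left k).eq, mul_assoc, zpow_two]
              rw [e1, ((hzy.zpow_left k).zpow_right 2).mul_zpow, hi, ← zpow_mul]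
            rw [h2] at h1
            have h3 : e = z * a * (z * y ^ (2 * i)) := by
              rw [he, pow_two]
              calc z * z * a * y ^ (2 * i) = z * (z * a) * y ^ (2 * i) := by group
                _ = z * (a * z) * y ^ (2 * i) := by rw [hza.eq]
                _ = z * a * (z * y ^ (2 * i)) := by group
            rw [h3]
            exact mul_mem m1 h1
        · rcases m2 with m2 | m2
          · -- `z ^ 2 a`, `y`
            apply he'
            exact mul_mem m2 (zpow_mem (q m1 m0) _)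
          · have h1 : y * z ^ k ∈ B := q m2 m1
            have h2 : y ∈ B := q m1 m0
            have h3 : z ^ k ∈ B := by
              have := mul_mem (inv_mem h2) h1
              rwa [inv_mul_cancel_left] at this
            apply hz'
            rw [← hi]
            exact zpow_mem h3 _
    refine h.m2 z h.z_mem h.z_ne e ?_ ?_ ?_ hcov
    · have h1 : Commute (z ^ 2 * a) (y ^ (2 * i)) :=
        (((hzy.pow_left 2).mul_left hya.symm).zpow_right _)
      rw [he, h1.mul_pow, (hza.pow_left 2).mul_pow, hap, ← pow_mul, mul_comm 2 p, pow_mul, hzp, one_pow, mul_one,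
        one_mul, ← zpow_natCast, ← zpow_mul, mul_comm, zpow_mul, zpow_natCast, hyp, one_zpow]
    · exact ((((Commute.refl z).pow_right 2).mul_right hza).mul_right (hzy.zpow_right _)).eq
    · intro h1
      apply haR
      have h2 : e ∈ R := (zpowers_le.2 h.z_mem) h1
      have h3 : a = (z ^ 2)⁻¹ * e * (y ^ (2 * i))⁻¹ := by rw [he]; group
      rw [h3]
      exact mul_mem (mul_mem (inv_mem (pow_mem h.z_mem 2)) h2) (inv_mem (zpow_mem hyR _))

end ml

section pl

/-- a minimal normal subgroup of a solvable group in a normal closure -/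
theorem exists_min {C : Type*} [Group C] [Finite C] (hsol : Group.IsSolvable C) {v : C} (hv : v ≠ 1) :
    ∃ (T : Subgroup C) (r : ℕ), T.Normal ∧ T ≠ ⊥ ∧ T ≤ normalClosure ({v} : Set C) ∧ r.Prime ∧ IsPGroup r T ∧
      (∀ x ∈ T, x ^ r = 1) := by
  have hne : {T : Subgroup C | T.Normal ∧ T ≠ ⊥ ∧ T ≤ normalClosure ({v} : Set C)}.Nonempty :=
    ⟨normalClosure ({v} : Set C), inferInstance, fun h => hv (by
      have : v ∈ normalClosure ({v} : Set C) := subset_normalClosure rfl
      rw [h, mem_bot] at this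
      exact this), le_rfl⟩
  obtain ⟨T, ⟨hTn, hT0, hTle⟩, hmin⟩ := (Set.toFinite _).exists_minimal hne
  have hmin' : ∀ M : Subgroup C, M.Normal → M ≤ T → M = ⊥ ∨ M = T := by
    intro M hM hMT
    by_cases h0 : M = ⊥
    · exact Or.inl h0
    · exact Or.inr (le_antisymm hMT (hmin ⟨hM, h0, hMT.trans hTle⟩ hMT))
  have hab : ⁅T, T⁆ = ⊥ := by
    rcases hmin' ⁅T, T⁆ inferInstance (commutator_le_left T T) with h | h
    · exact h
    · exfalso
      -- `T` would be perfect
      have hT : Group.IsSolvable T := inferInstance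
      have hnt : Nontrivial T := (nontrivial_iff_ne_bot T).2 hT0
      have h1 : _root_.commutator T < ⊤ := Group.IsSolvable.commutator_lt_top_of_nontrivial T
      apply h1.ne
      rw [eq_top_iff]
      intro t _
      have h2 : (t : C) ∈ (_root_.commutator T).map T.subtype := by
        rw [_root_.commutator_def, map_commutator, ← MonoidHom.range_eq_map, range_subtype, h]
        exact t.2
      obtain ⟨t', ht', ht⟩ := h2
      have : t' = t := Subtype.ext ht
      rwa [← this]
  have hab' : ∀ x ∈ T, ∀ y ∈ T, Commute x y := by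
    intro x hx y hy
    have h1 := commutator_mem_commutator hx hy
    rw [hab, mem_bot] at h1
    exact commutatorElement_eq_one_iff_mul_comm.1 h1
  obtain ⟨r, hr, h1, h2⟩ := Lib.MinNormalNonabelian.abelian_structure T hT0 hmin' hab'
  exact ⟨T, r, hTn, hT0, hTle, hr, h1, h2⟩

variable {G Ω : Type*} [Group G] [MulAction G Ω]

theorem exists_V [Finite G] {a v : G} (hsol : Group.IsSolvable ↥(centralizer ({a} : Set G))) (hv1 : v ≠ 1)
    (hva : v * a = a * v) :
    ∃ (V : Subgroup G) (r : ℕ), r.Prime ∧ IsPGroup r V ∧ V ≠ ⊥ ∧ (∀ x ∈ V, x ^ r = 1) ∧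
      V ≤ centralizer ({a} : Set G) ∧ centralizer ({a} : Set G) ≤ normalizer (V : Set G) ∧
      V ≤ closure {z | ∃ c : G, c * a = a * c ∧ z = c * v * c⁻¹} := by
  let v' : ↥(centralizer ({a} : Set G)) := ⟨v, mem_centralizer_singleton_iff.2 hva⟩
  obtain ⟨T, r, hTn, hT0, hTle, hr, hTp, hTe⟩ := exists_min hsol (v := v') fun h => hv1 (congrArg Subtype.val h)
  refine ⟨T.map (centralizer ({a} : Set G)).subtype, r, hr, hTp.map _, ?_, ?_, ?_, ?_, ?_⟩
  · rwa [Ne, map_eq_bot_iff_of_injective _ (subtype_injective _)]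
  · rintro _ ⟨t, ht, rfl⟩
    rw [← map_pow, hTe t ht, map_one]
  · rintro _ ⟨t, ht, rfl⟩
    exact t.2
  · intro c hc
    rw [mem_normalizer_iff]
    have key : ∀ c ∈ centralizer ({a} : Set G), ∀ h ∈ T.map (centralizer ({a} : Set G)).subtype,
        c * h * c⁻¹ ∈ T.map (centralizer ({a} : Set G)).subtype := by
      rintro c hc _ ⟨t, ht, rfl⟩
      exact ⟨⟨c, hc⟩ * t * ⟨c, hc⟩⁻¹, hTn.conj_mem t ht _, rfl⟩
    intro h
    refine ⟨key c hc h, fun h1 => ?_⟩
    have h2 := key c⁻¹ (inv_mem hc) _ h1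
    have e : c⁻¹ * (c * h * c⁻¹) * c⁻¹⁻¹ = h := by group
    rwa [e] at h2
  · refine (map_mono hTle).trans ?_
    rw [normalClosure, MonoidHom.map_closure, closure_le]
    rintro _ ⟨w, hw, rfl⟩
    obtain ⟨b, hb, hw⟩ := Group.mem_conjugatesOfSet_iff.1 hw
    rw [Set.mem_singleton_iff] at hb
    subst hb
    obtain ⟨c, hc⟩ := isConj_iff.1 hw
    refine subset_closure ⟨(c : G), mem_centralizer_singleton_iff.1 c.2, ?_⟩
    rw [← hc]
    rfl

/-- a nontrivial element of `V` commuting with a nontrivial element of `⟨z, e⟩` -/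
theorem exists_fixed [Finite G] {p r : ℕ} (hp : p.Prime) (hr : r.Prime) (hrp : r ≠ p) {R V : Subgroup G}
    (hV : IsPGroup r V) (hV1 : V ≠ ⊥) {z e : G} (hz : z ∈ R) (he : e ∈ R) (hzp : z ^ p = 1) (hep : e ^ p = 1)
    (hz1 : z ≠ 1) (hez : e * z = z * e) (hne : e ∉ zpowers z) (hzV : z ∈ normalizer (V : Set G))
    (heV : e ∈ normalizer (V : Set G)) : ∃ u ∈ R, u ≠ 1 ∧ ∃ w ∈ V, w ≠ 1 ∧ u * w = w * u := by
  classical
  have hpf : Fact p.Prime := ⟨hp⟩
  have hrf : Fact r.Prime := ⟨hr⟩
  set A : Subgroup G := closure {z, e} with hA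
  have hcomm : ∀ x ∈ A, ∀ y ∈ A, x * y = y * x := by
    have h0 : IsMulCommutative A := by
      rw [hA]
      refine isMulCommutative_closure ?_
      rintro x (rfl | rfl) y (rfl | rfl)
      · rfl
      · exact hez.symm
      · exact hez
      · rfl
    intro x hx y hy
    exact congrArg Subtype.val (h0.is_comm.comm (⟨x, hx⟩ : A) ⟨y, hy⟩)
  have hexp : ∀ x ∈ A, x ^ p = 1 := by
    intro x hx
    refine closure_induction (p := fun y _ => y ^ p = 1) ?_ (one_pow p) ?_ ?_ hx
    · rintro y (rfl | rfl)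
      · exact hzp
      · exact hep
    · intro x y hx hy h1 h2
      have : Commute x y := hcomm x hx y hy
      rw [this.mul_pow, h1, h2, one_mul]
    · intro x _ h1
      rw [inv_pow, h1, inv_one]
  have hAR : A ≤ R := by
    rw [hA, closure_le]
    rintro y (rfl | rfl)
    · exact hz
    · exact he
  have hAV : A ≤ normalizer (V : Set G) := by
    rw [hA, closure_le]
    rintro y (rfl | rfl)
    · exact hzV
    · exact heV
  have hAp : IsPGroup p A := fun x => ⟨1, Subtype.ext (by simpa using hexp x x.2)⟩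
  have hzo : orderOf z = p := orderOf_eq_prime hzp hz1
  have hcard : p ^ 2 ≤ Nat.card A := by
    obtain ⟨m, hm⟩ := IsPGroup.iff_card.1 hAp
    have hlt : zpowers z < A := by
      refine lt_of_le_of_ne (zpowers_le.2 (subset_closure (by simp))) ?_
      intro h
      apply hne
      rw [h]
      exact subset_closure (by simp)
    have h1 : Nat.card (zpowers z) < Nat.card A := by
      by_contra hcon
      exact hlt.ne (eq_of_le_of_card_ge hlt.le (not_lt.1 hcon))
    rw [Nat.card_zpowers, hzo, hm] at h1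
    rw [hm]
    apply Nat.pow_le_pow_right hp.pos
    by_contra hcon
    have h2 : m ≤ 1 := by omega
    have h3 := Nat.pow_le_pow_right hp.pos h2
    rw [pow_one] at h3
    omega
  have hEA : Cfsg.IsElementaryAbelian p A :=
    ⟨⟨⟨fun x y => Subtype.ext (hcomm x x.2 y y.2)⟩⟩, hexp⟩
  have hndvd : ¬ p ∣ Nat.card V := by
    obtain ⟨m, hm⟩ := IsPGroup.iff_card.1 hV
    rw [hm]
    intro h
    exact hrp ((Nat.prime_dvd_prime_iff_eq hp hr).1 (hp.dvd_of_dvd_pow h)).symm
  have h1 := SignalizersComponents.CoprimeGen.le_iSup_centralizer_ne_one hEA hcard hndvd hAV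
  by_contra hno
  push Not at hno
  apply hV1
  rw [eq_bot_iff]
  refine h1.trans (iSup_le fun u => ?_)
  intro w hw
  rw [mem_bot]
  by_contra hw1
  exact hno u.1 (hAR u.2.1) u.2.2 w hw.1 hw1 (mem_centralizer_singleton_iff.1 hw.2).symm

/-- **pair lemma** -/
theorem pl [Finite G] (hF : ∀ t : G, t ≠ 1 → ∃ ω : Ω, t • ω ≠ ω) {p : ℕ} (hp : p.Prime) (hp2 : p ≠ 2) {R : Subgroup G}
    {z : G} (h : Loc Ω p R z) {a : G} (hap : a ^ p = 1) (haz : a * z = z * a) (haR : a ∉ R)
    (hs : ∃ s ∈ R, s * a * s⁻¹ = z * a) (he : ∃ e ∈ R, e * a = a * e ∧ e ∉ zpowers z)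
    (hsol : Group.IsSolvable ↥(centralizer ({a} : Set G)))
    (hr : ∀ r : ℕ, r.Prime → r ≠ p → ∀ w : G, w ^ r = 1 → w ≠ 1 → w * a = a * w → (∃ u ∈ R, u ≠ 1 ∧ u * w = w * u) →
      ¬ Cv Ω a w) {v : G} (hv1 : v ≠ 1) (hva : v * a = a * v) : ¬ Cv Ω a v := by
  intro hcov
  have hpf : Fact p.Prime := ⟨hp⟩
  obtain ⟨V, r, hrp, hVp, hV1, hVe, hVa, hVn, hVcl⟩ := exists_V hsol hv1 hva
  have hcovV : ∀ w ∈ V, Cv Ω a w := fun w hw => H867.RC.pair_mv hcov (hVcl hw)
  have hVa' : ∀ w ∈ V, w * a = a * w := fun w hw => mem_centralizer_singleton_iff.1 (hVa hw)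
  have hzC : z ∈ centralizer ({a} : Set G) := mem_centralizer_singleton_iff.2 haz.symm
  obtain ⟨e, heR, hea, hez⟩ := he
  by_cases hrp' : r = p
  · subst hrp'
    have hz : IsPGroup r (zpowers z) := IsPGroup.of_card (n := 1) (by
      rw [Nat.card_zpowers, orderOf_eq_prime (h.exp z h.z_mem) h.z_ne, pow_one])
    have h1 := PLocal.OffenderStep.inf_centralizer_ne_bot V (zpowers z) hVp hz (zpowers_le.2 (hVn hzC)) hV1
    obtain ⟨⟨w, hw⟩, hw1⟩ := Subgroup.ne_bot_iff_exists_ne_one.1 h1
    have hw1' : w ≠ 1 := fun h2 => hw1 (Subtype.ext h2)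
    have hwz : w * z = z * w := by
      have h2 := (mem_centralizer_iff.1 hw.2) z (mem_zpowers z)
      exact h2.symm
    have hwp := hVe w hw.1
    have hcw := hcovV w hw.1
    have haw : a * w = w * a := (hVa' w hw.1).symm
    by_cases hwR : w ∈ R
    · refine h.m2 w hwR hw1' a hap haw.symm (fun h2 => haR ((zpowers_le.2 hwR) h2)) hcw.symm
    · exact ml hF hp hp2 h haw hap haz hwp hwz haR hwR hs hcw
  · obtain ⟨u, huR, hu1, w, hwV, hw1, huw⟩ := exists_fixed hp hrp hrp' hVp hV1 h.z_mem heR (h.exp z h.z_mem) (h.exp e heR)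
      h.z_ne (h.cz e heR) hez (hVn hzC) (hVn (mem_centralizer_singleton_iff.2 hea))
    exact hr r hrp hrp' w (hVe w hwV) hw1 (hVa' w hwV) ⟨u, huR, hu1, huw⟩ (hcovV w hwV)

end pl

end Cfsg.Agent.H711.MG
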