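import Cfsg.Agent.H711.MG.NonEv

/-!
# S3509, Monster: covers by three elements (helper711)

`a, b, c` commuting elements of different prime orders `p, q, r`, `Q ≤ C(a)` a `p`-group with `a ∈ Q`, normalised and not
centralised by `b` and `c`; if `{a, v}` is never a cover for `v ≠ 1` in `C(a)` and `{a, b, c}` is a cover, then `Q` is large.
-/

set_option autoImplicit false
open Cfsg

namespace Cfsg.Agent.H711.MG

open MulAction Subgroup Cfsg.Agent.H106.RC Cfsg.Agent.H867.RC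

variable {G Ω : Type*} [Group G] [MulAction G Ω]

theorem dvd_index [Finite G] {p r : ℕ} (hp : p.Prime) (hr : r.Prime) (hrp : r ≠ p) {Q : Subgroup G} (hQ : IsPGroup p Q)
    {c : G} (hcr : c ^ r = 1) (hcQ : c ∈ normalizer (Q : Set G)) (hne : ¬ ∀ u ∈ Q, u * c = c * u) :
    ∃ k, 0 < k ∧ Nat.card Q = p ^ k * Nat.card ↥(Q ⊓ centralizer ({c} : Set G)) ∧ r ∣ p ^ k - 1 := by
  classical
  have hpf : Fact p.Prime := ⟨hp⟩
  have hrf : Fact r.Prime := ⟨hr⟩
  have hBQ : zpowers c ≤ normalizer (Q : Set G) := zpowers_le.2 hcQ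
  let φ : zpowers c →* MulAut Q := (Subgroup.normalizerMonoidHom Q).comp (Subgroup.inclusion hBQ)
  let _ : MulAction (zpowers c) Q := MulAction.compHom Q φ
  have hsmul : ∀ (b : zpowers c) (v : Q), ((b • v : Q) : G) = b * v * (b : G)⁻¹ := fun b v => rfl
  have hpg : IsPGroup r (zpowers c) := by
    rintro ⟨x, hx⟩
    refine ⟨1, Subtype.ext ?_⟩
    obtain ⟨k, rfl⟩ := mem_zpowers_iff.1 hx
    show (c ^ k) ^ r ^ 1 = 1
    rw [pow_one, ← zpow_natCast, ← zpow_mul, mul_comm, zpow_mul, zpow_natCast, hcr, one_zpow]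
  have h1 := hpg.card_modEq_card_fixedPoints Q
  have h2 : Nat.card (fixedPoints (zpowers c) Q) = Nat.card ↥(Q ⊓ centralizer ({c} : Set G)) := by
    refine Nat.card_congr ⟨fun v => ⟨v.1.1, v.1.2, ?_⟩, fun v => ⟨⟨v.1, v.2.1⟩, ?_⟩, fun v => rfl, fun v => rfl⟩
    · refine mem_centralizer_singleton_iff.2 ?_
      have h3 := congrArg Subtype.val (v.2 ⟨c, mem_zpowers c⟩)
      rw [hsmul] at h3
      have h4 : c * (v.1 : G) * c⁻¹ = v.1 := h3
      rw [mul_inv_eq_iff_eq_mul] at h4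
      exact h4.symm
    · rintro ⟨x, hx⟩
      apply Subtype.ext
      rw [hsmul]
      have h3 : v.1 * c = c * v.1 := mem_centralizer_singleton_iff.1 v.2.2
      have h4 : Commute v.1 c := h3
      obtain ⟨k, rfl⟩ := mem_zpowers_iff.1 hx
      show c ^ k * v.1 * (c ^ k)⁻¹ = v.1
      rw [← (h4.zpow_right k).eq, mul_inv_cancel_right]
  rw [h2] at h1
  have hle : Q ⊓ centralizer ({c} : Set G) ≤ Q := inf_le_left
  obtain ⟨m, hm⟩ := IsPGroup.iff_card.1 hQ
  obtain ⟨n, hn⟩ := IsPGroup.iff_card.1 (hQ.to_le hle)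
  have hlt : n < m := by
    by_contra hcon
    apply hne
    have h3 : Q ⊓ centralizer ({c} : Set G) = Q := by
      apply eq_of_le_of_card_ge hle
      rw [hm, hn]
      exact Nat.pow_le_pow_right hp.pos (by omega)
    intro u hu
    rw [← h3] at hu
    exact mem_centralizer_singleton_iff.1 hu.2
  have h4 : Nat.card Q = p ^ (m - n) * Nat.card ↥(Q ⊓ centralizer ({c} : Set G)) := by
    rw [hm, hn, ← pow_add]
    congr 1
    omega
  refine ⟨m - n, by omega, h4, ?_⟩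
  have h5 : Nat.card ↥(Q ⊓ centralizer ({c} : Set G)) * 1 ≡
      Nat.card ↥(Q ⊓ centralizer ({c} : Set G)) * p ^ (m - n) [MOD r] := by
    rw [mul_one, mul_comm _ (p ^ (m - n)), ← h4]
    exact h1.symm
  have h6 : Nat.gcd r (Nat.card ↥(Q ⊓ centralizer ({c} : Set G))) = 1 := by
    rw [hn]
    exact Nat.Coprime.pow_right _ ((Nat.coprime_primes hr hp).2 hrp)
  exact (Nat.modEq_iff_dvd' (Nat.one_le_pow _ _ hp.pos)).1 (Nat.ModEq.cancel_left_of_coprime h6 h5)

/-- elements of coprime order acting on a `p`-group: `[Q, b, b] = 1` implies `[Q, b] = 1` -/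
theorem comm_of_comm {p q : ℕ} (hp : p.Prime) (hq : q.Prime) (hqp : q ≠ p) {Q : Subgroup G} (hQ : IsPGroup p Q) {b : G}
    (hbq : b ^ q = 1) (hbQ : b ∈ normalizer (Q : Set G)) {u : G} (hu : u ∈ Q)
    (h : (u * b * u⁻¹ * b⁻¹) * b = b * (u * b * u⁻¹ * b⁻¹)) : u * b = b * u := by
  have hw : u * b * u⁻¹ * b⁻¹ ∈ Q := by
    have e : u * b * u⁻¹ * b⁻¹ = u * (b * u⁻¹ * b⁻¹) := by group
    rw [e]
    exact mul_mem hu ((mem_normalizer_iff.1 hbQ _).1 (inv_mem hu))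
  have h1 : (u * b * u⁻¹ * b⁻¹) ^ q = 1 := by
    have h2 : Commute (u * b * u⁻¹ * b⁻¹) b := h
    have h3 := h2.mul_pow q
    rw [hbq, mul_one, inv_mul_cancel_right, conj_pow, hbq, mul_one, mul_inv_cancel] at h3
    exact h3.symm
  have h2 : u * b * u⁻¹ * b⁻¹ = 1 := by
    obtain ⟨k, hk⟩ := hQ ⟨_, hw⟩
    have h3 : (u * b * u⁻¹ * b⁻¹) ^ p ^ k = 1 := congrArg Subtype.val hk
    have h4 : orderOf (u * b * u⁻¹ * b⁻¹) ∣ Nat.gcd q (p ^ k) :=
      Nat.dvd_gcd (orderOf_dvd_of_pow_eq_one h1) (orderOf_dvd_of_pow_eq_one h3)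
    have h5 : Nat.gcd q (p ^ k) = 1 := Nat.Coprime.pow_right _ ((Nat.coprime_primes hq hp).2 hqp)
    rw [h5] at h4
    exact orderOf_eq_one_iff.1 (Nat.dvd_one.1 h4)
  rwa [mul_inv_eq_one, mul_inv_eq_iff_eq_mul] at h2

/-- **triple lemma** -/
theorem tl [Finite G] {p q r : ℕ} (hp : p.Prime) (hq : q.Prime) (hr : r.Prime) (hqp : q ≠ p) (hrp : r ≠ p) (hqr : q ≠ r)
    {a b c : G} (hap : a ^ p = 1) (ha1 : a ≠ 1) (hbq : b ^ q = 1) (hcr : c ^ r = 1) (hab : a * b = b * a)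
    (hac : a * c = c * a) (hbc : b * c = c * b)
    (hcov : ∀ ω : Ω, a • ω = ω ∨ b • ω = ω ∨ c • ω = ω) (hpl : ∀ v : G, v ≠ 1 → v * a = a * v → ¬ Cv Ω a v)
    {Q : Subgroup G} (hQ : IsPGroup p Q) (hQa : Q ≤ centralizer ({a} : Set G)) (haQ : a ∈ Q)
    (hbQ : b ∈ normalizer (Q : Set G)) (hcQ : c ∈ normalizer (Q : Set G)) (hb : ¬ ∀ u ∈ Q, u * b = b * u)
    (hc : ¬ ∀ u ∈ Q, u * c = c * u) {m n : ℕ} (hm : ∀ k, 0 < k → q ∣ p ^ k - 1 → m ≤ k)
    (hn : ∀ k, 0 < k → r ∣ p ^ k - 1 → n ≤ k) : p ^ (m + n + 1) ∣ Nat.card Q := by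
  classical
  have hpf : Fact p.Prime := ⟨hp⟩
  have hQa' : ∀ u ∈ Q, u * a = a * u := fun u hu => mem_centralizer_singleton_iff.1 (hQa hu)
  -- the rule on `Q`-orbits
  have key : ∀ ω : Ω, a • ω ≠ ω → Cm Q b ≤ stabilizer G ω ∨ Cm Q c ≤ stabilizer G ω := by
    intro ω hω
    have horb : ∀ w' ∈ orbit Q ω, a • w' ≠ w' := by
      rintro _ ⟨⟨u, hu⟩, rfl⟩ h
      apply hω
      change a • u • ω = u • ω at h
      rw [smul_smul, ← hQa' u hu, mul_smul] at h
      exact smul_left_cancel u h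
    have main : ∀ x : G, (∀ w' ∈ orbit Q ω, x • w' = w') → Cm Q x ≤ stabilizer G ω := by
      intro x hx
      rw [Cm, closure_le]
      rintro _ ⟨u, hu, rfl⟩
      have h0 : x • ω = ω := hx ω (mem_orbit_self ω)
      have h4 := hx ((u⁻¹ : G) • ω) ⟨⟨u⁻¹, inv_mem hu⟩, rfl⟩
      have h5 : u * x * u⁻¹ ∈ stabilizer G ω := by
        rw [mem_stabilizer_iff, mul_smul, mul_smul, h4, smul_inv_smul]
      exact mul_mem h5 (inv_mem (show x ∈ stabilizer G ω from h0))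
    obtain ⟨i, hi⟩ := Cfsg.Agent.H393.RC.exists_trivial (ι := Bool) (fun i => if i then b else c)
      (fun i => if i then q else r) (by intro i; cases i <;> simp [hq, hr])
      (by
        intro i j hij
        cases i <;> cases j <;> simp_all)
      (by intro i; cases i <;> simp [hbq, hcr]) hp Q hQ (by intro i; cases i <;> simp [hbQ, hcQ])
      (by intro i hi; cases i <;> simp_all) ω (fun w' hw' => by
        rcases hcov w' with h | h | h
        · exact absurd h (horb w' hw')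
        · exact ⟨true, by simpa using h⟩
        · exact ⟨false, by simpa using h⟩)
    cases i
    · exact Or.inr (main c (by simpa using hi))
    · exact Or.inl (main b (by simpa using hi))
  have hdis : ∀ v, v ∈ Cm Q b → v ∈ Cm Q c → v = 1 := by
    intro v hvb hvc
    by_contra hv1
    refine hpl v hv1 (hQa' v (cm_le hbQ hvb)) fun ω => ?_
    by_cases hω : a • ω = ω
    · exact Or.inl hω
    · rcases key ω hω with h | h
      · exact Or.inr (h hvb)
      · exact Or.inr (h hvc)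
  -- `c` centralises `[Q, b]`
  have hcb : ∀ y ∈ Cm Q b, y * c = c * y := by
    intro y hy
    have hyQ : y ∈ Q := cm_le hbQ hy
    have h1 : c * y * c⁻¹ ∈ Cm Q b := by
      unfold Cm at hy
      refine closure_induction (p := fun y _ => c * y * c⁻¹ ∈ Cm Q b) ?_ ?_ ?_ ?_ hy
      · rintro _ ⟨u, hu, rfl⟩
        have h2 : c * u * c⁻¹ ∈ Q := (mem_normalizer_iff.1 hcQ u).1 hu
        have h3 : c * b * c⁻¹ = b := by rw [← hbc]; group
        have e : c * (u * b * u⁻¹ * b⁻¹) * c⁻¹ = (c * u * c⁻¹) * (c * b * c⁻¹) * (c * u * c⁻¹)⁻¹ * (c * b * c⁻¹)⁻¹ := by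
          group
        rw [e, h3]
        exact cm_gen h2
      · simp [one_mem]
      · intro x y _ _ hx hy
        have e : c * (x * y) * c⁻¹ = (c * x * c⁻¹) * (c * y * c⁻¹) := by group
        rw [e]
        exact mul_mem hx hy
      · intro x _ hx
        have e : c * x⁻¹ * c⁻¹ = (c * x * c⁻¹)⁻¹ := by group
        rw [e]
        exact inv_mem hx
    have h2 : c * y * c⁻¹ * y⁻¹ ∈ Cm Q b := mul_mem h1 (inv_mem hy)
    have h3 : c * y * c⁻¹ * y⁻¹ ∈ Cm Q c := by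
      have e : c * y * c⁻¹ * y⁻¹ = (y * c * y⁻¹ * c⁻¹)⁻¹ := by group
      rw [e]
      exact inv_mem (cm_gen hyQ)
    have h4 := hdis _ h2 h3
    rw [mul_inv_eq_one, mul_inv_eq_iff_eq_mul] at h4
    exact h4.symm
  obtain ⟨k, hk0, hk1, hk2⟩ := dvd_index hp hr hrp hQ hcr hcQ hc
  set D : Subgroup G := Q ⊓ centralizer ({c} : Set G) with hD
  have hDp : IsPGroup p D := hQ.to_le inf_le_left
  have hbD : b ∈ normalizer (D : Set G) := by
    have hb' : b ∈ centralizer ({c} : Set G) := mem_centralizer_singleton_iff.2 hbc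
    have h1 : ∀ x ∈ centralizer ({c} : Set G), x ∈ normalizer (Q : Set G) → ∀ u ∈ D, x * u * x⁻¹ ∈ D := by
      intro x hx hxQ u hu
      have huc : u ∈ centralizer ({c} : Set G) := (mem_inf.1 hu).2
      exact mem_inf.2 ⟨(mem_normalizer_iff.1 hxQ u).1 (mem_inf.1 hu).1,
        (centralizer ({c} : Set G)).mul_mem ((centralizer ({c} : Set G)).mul_mem hx huc)
          ((centralizer ({c} : Set G)).inv_mem hx)⟩
    rw [mem_normalizer_iff]
    intro u
    refine ⟨h1 b hb' hbQ u, fun h2 => ?_⟩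
    have h3 := h1 b⁻¹ ((centralizer ({c} : Set G)).inv_mem hb') ((normalizer (Q : Set G)).inv_mem hbQ) _ h2
    have e : b⁻¹ * (b * u * b⁻¹) * b⁻¹⁻¹ = u := by group
    rwa [e] at h3
  have hbD' : ¬ ∀ u ∈ D, u * b = b * u := by
    intro hall
    apply hb
    intro u hu
    apply comm_of_comm hp hq hqp hQ hbq hbQ hu
    have h1 : u * b * u⁻¹ * b⁻¹ ∈ Cm Q b := cm_gen hu
    exact hall _ ⟨cm_le hbQ h1, mem_centralizer_singleton_iff.2 (hcb _ h1)⟩
  obtain ⟨j, hj0, hj1, hj2⟩ := dvd_index hp hq hqp hDp hbq hbD hbD'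
  have h1 : p ∣ Nat.card ↥(D ⊓ centralizer ({b} : Set G)) := by
    have h2 : orderOf a = p := orderOf_eq_prime hap ha1
    have h3 : a ∈ D ⊓ centralizer ({b} : Set G) :=
      ⟨⟨haQ, mem_centralizer_singleton_iff.2 hac⟩, mem_centralizer_singleton_iff.2 hab⟩
    have h4 := orderOf_dvd_natCard (⟨a, h3⟩ : ↥(D ⊓ centralizer ({b} : Set G)))
    rwa [Subgroup.orderOf_mk, h2] at h4
  rw [hk1, hj1, pow_add, pow_add, pow_one, mul_comm (p ^ m), mul_assoc (p ^ n)]
  exact Nat.mul_dvd_mul (pow_dvd_pow p (hn k hk0 hk2)) (Nat.mul_dvd_mul (pow_dvd_pow p (hm j hj0 hj2)) h1)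

end Cfsg.Agent.H711.MG
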