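import Cfsg.Agent.H867.RC.NonEv
import Cfsg.Agent.H740.OreM.Dich

/-!
# S3509, Monster: `ZData` from `Rad` (helper711)

`D = N C_D(z)`, `C_N(z) = ⟨x⟩ = Z(N)`: the exponent of `N` is `p`; if `|N| > p ^ (p + 1)`, every `y ∈ D` with `y ^ p = 1`
commutes with some `e ∈ N` outside `⟨x⟩`.  `zdata` : `ZData p x`, if the elements of `N` commute with involutions.
-/

set_option autoImplicit false
open Cfsg

namespace Cfsg.Agent.H711.MG

open Subgroup Cfsg.Agent.BpSpor.M5 Cfsg.Agent.H740.OreM.Dich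

section lin

variable {V : Type*} [AddCommGroup V] [Finite V]

omit [Finite V] in
theorem card_ker_mul_range {W : Type*} [AddCommGroup W] (f : V →+ W) :
    Nat.card V = Nat.card f.ker * Nat.card f.range := by
  rw [mul_comm, AddSubgroup.card_eq_card_quotient_mul_card_addSubgroup f.ker,
    Nat.card_congr (QuotientAddGroup.quotientKerEquivRange f).toEquiv]

omit [Finite V] in
theorem sub_one_pow {p : ℕ} (hp : p.Prime) (hp2 : p ≠ 2) (hexp : ∀ v : V, p • v = 0) {Y : AddMonoid.End V}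
    (hY : Y ^ p = 1) : (Y - 1) ^ p = 0 := by
  have h1 : Commute Y (-1 : AddMonoid.End V) := (Commute.one_right Y).neg_right
  obtain ⟨r, hr⟩ := h1.exists_add_pow_prime_eq hp
  have h0 : (p : AddMonoid.End V) = 0 := by
    ext v
    exact hexp v
  rw [sub_eq_add_neg, hr, hY, (hp.odd_of_ne_two hp2).neg_one_pow, h0]
  simp

/-- **blocks of an element of order `p`** -/
theorem card_le_pow {p : ℕ} (hp : p.Prime) (hp2 : p ≠ 2) (hexp : ∀ v : V, p • v = 0) {Y : AddMonoid.End V}
    (hY : Y ^ p = 1) {m : ℕ} (hm : Nat.card (AddMonoidHom.ker (Y - 1 : AddMonoid.End V)) ≤ m) : Nat.card V ≤ m ^ p := by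
  set d : AddMonoid.End V := Y - 1 with hd
  have key : ∀ k : ℕ, Nat.card V ≤ m ^ k * Nat.card (AddMonoidHom.range (d ^ k : AddMonoid.End V)) := by
    intro k
    induction k with
    | zero =>
      have h1 : AddMonoidHom.range (d ^ 0 : AddMonoid.End V) = ⊤ := by
        rw [pow_zero]
        exact AddMonoidHom.range_eq_top.2 fun v => ⟨v, rfl⟩
      rw [h1, pow_zero, one_mul]
      exact (Nat.card_congr (AddSubgroup.topEquiv (G := V)).toEquiv).ge
    | succ k ih =>
      refine ih.trans ?_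
      rw [pow_succ, mul_assoc]
      refine Nat.mul_le_mul_left _ ?_
      let g : AddMonoidHom.range (d ^ k : AddMonoid.End V) →+ V :=
        (d : V →+ V).comp (AddMonoidHom.range (d ^ k : AddMonoid.End V)).subtype
      rw [card_ker_mul_range g]
      refine Nat.mul_le_mul ?_ ?_
      · refine (Nat.card_le_card_of_injective
          (fun v : g.ker => (⟨v.1.1, v.2⟩ : AddMonoidHom.ker (d : V →+ V))) ?_).trans hm
        intro a b hab
        have h2 := congrArg (fun t : AddMonoidHom.ker (d : V →+ V) => (t : V)) hab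
        exact Subtype.ext (Subtype.ext h2)
      · refine Nat.card_le_card_of_injective (fun v : g.range =>
          (⟨v.1, ?_⟩ : AddMonoidHom.range (d ^ (k + 1) : AddMonoid.End V))) ?_
        · obtain ⟨⟨_, w, rfl⟩, hw⟩ := v.2
          refine ⟨w, ?_⟩
          rw [← hw, pow_succ']
          rfl
        · intro a b hab
          have h2 := congrArg (fun t : AddMonoidHom.range (d ^ (k + 1) : AddMonoid.End V) => (t : V)) hab
          exact Subtype.ext h2
  have h1 := key p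
  rw [hd, sub_one_pow hp hp2 hexp hY] at h1
  have h2 : AddMonoidHom.range (0 : AddMonoid.End V) = ⊥ := by
    rw [eq_bot_iff]
    rintro _ ⟨v, rfl⟩
    rfl
  rw [h2] at h1
  simpa using h1

end lin

section rad

universe u v

variable {D : Type u} [Group D] [Finite D] {p : ℕ} [hp : Fact p.Prime] {z x : D} {N : Subgroup D}
    {A : Type v} [Group A] {f : ↥(centralizer ({z} : Set D)) →* A}

omit [Finite D] hp in
theorem xpow (h : Rad p z x N f) (i : ℤ) : (x ^ i) ^ p = 1 := by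
  rw [← zpow_natCast, ← zpow_mul, mul_comm, zpow_mul, zpow_natCast, ← h.ox, pow_orderOf_eq_one, one_zpow]

/-- **the exponent of `N` is `p`** -/
theorem exp_N (hp2 : p ≠ 2) (h : Rad p z x N f) (hcen : Cen x N) {n : D} (hn : n ∈ N) : n ^ p = 1 := by
  -- `n ^ p` is central
  have h1 : n ^ p ∈ zpowers x := by
    refine hcen _ (pow_mem hn p) fun m hm => ?_
    obtain ⟨i, hi⟩ := h.comm hp2 hn hm
    have h2 : ∀ k : ℕ, n ^ k * m * (n ^ k)⁻¹ = m * (x ^ i) ^ k := by
      intro k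
      induction k with
      | zero => simp
      | succ k ih =>
        have e : n ^ (k + 1) * m * (n ^ (k + 1))⁻¹ = n * (n ^ k * m * (n ^ k)⁻¹) * n⁻¹ := by
          rw [pow_succ']
          group
        rw [e, ih]
        calc n * (m * (x ^ i) ^ k) * n⁻¹ = n * m * ((x ^ i) ^ k * n⁻¹) := by group
          _ = n * m * (n⁻¹ * (x ^ i) ^ k) := by rw [← zpow_natCast, ← zpow_mul, h.xzc]
          _ = (n * m * n⁻¹) * (x ^ i) ^ k := by group
          _ = m * x ^ i * (x ^ i) ^ k := by rw [hi]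
          _ = m * (x ^ i) ^ (k + 1) := by rw [pow_succ', mul_assoc]
    have h3 := h2 p
    rw [xpow h i, mul_one, mul_inv_eq_iff_eq_mul] at h3
    exact h3
  obtain ⟨j, hj⟩ := mem_zpowers_iff.1 h1
  obtain ⟨i, hi⟩ := h.inv hp2 hn
  have h2 : z * n ^ p * z⁻¹ = (n ^ p)⁻¹ := by
    rw [← conj_pow, hi, (show Commute n⁻¹ (x ^ i) from h.xzc i n⁻¹).mul_pow, xpow h i, mul_one, inv_pow]
  have h3 : z * n ^ p * z⁻¹ = n ^ p := by
    rw [← hj, h.xzc, mul_inv_cancel_right]
  have h4 : x ^ j * x ^ j = 1 := by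
    rw [hj, ← mul_inv_cancel (n ^ p), ← h2, h3]
  rw [← hj]
  exact h.sq_one hp2 h4

/-- **an element of `N` outside `⟨x⟩` commuting with `y`** -/
theorem exists_e (hp2 : p ≠ 2) (h : Rad p z x N f) (hcen : Cen x N) (hcard : p ^ (p + 1) < Nat.card N) {y : D}
    (hy : y ^ p = 1) : ∃ e ∈ N, e ∉ zpowers x ∧ e * y = y * e := by
  by_contra hno
  push Not at hno
  have hC : ∀ n ∈ N, n * y = y * n → n ∈ zpowers x := fun n hn hny => by
    by_contra hx
    exact hno n hn hx hny
  have hNn := h.nN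
  let Z : Subgroup N := (zpowers x).subgroupOf N
  have hZn : Z.Normal := by
    refine ⟨fun n hn g => ?_⟩
    rw [mem_subgroupOf] at hn ⊢
    exact h.normalZ.conj_mem _ hn _
  have hcomm : ∀ a b : N ⧸ Z, a * b = b * a := by
    intro a b
    obtain ⟨a, rfl⟩ := QuotientGroup.mk_surjective a
    obtain ⟨b, rfl⟩ := QuotientGroup.mk_surjective b
    rw [← QuotientGroup.mk_mul, ← QuotientGroup.mk_mul, eq_comm, QuotientGroup.eq]
    obtain ⟨i, hi⟩ := h.comm hp2 a.2 b.2
    refine mem_subgroupOf.2 (mem_zpowers_iff.2 ⟨i, ?_⟩)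
    show x ^ i = ((b : D) * a)⁻¹ * (a * b)
    have h1 : (a : D) * b = b * x ^ i * a := by rw [← hi]; group
    rw [h1, mul_assoc (b : D), ← h.xzc i (a : D)]
    group
  let _ : CommGroup (N ⧸ Z) := { (inferInstance : Group (N ⧸ Z)) with mul_comm := hcomm }
  have hconj : ∀ n : N, ((MulAut.conjNormal y n : N) : D) = y * n * y⁻¹ := fun n => MulAut.conjNormal_apply y n
  let Y : N ⧸ Z →* N ⧸ Z := QuotientGroup.map Z Z (MulAut.conjNormal y : MulAut N).toMonoidHom (by
    intro n hn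
    obtain ⟨i, hi⟩ := mem_zpowers_iff.1 (mem_subgroupOf.1 hn)
    rw [mem_comap]
    refine mem_subgroupOf.2 (mem_zpowers_iff.2 ⟨i, ?_⟩)
    have h1 : ((MulAut.conjNormal y : MulAut N).toMonoidHom n : D) = y * n * y⁻¹ := hconj n
    rw [h1, ← hi, h.xzc, mul_inv_cancel_right])
  have hYm : ∀ n : N, Y (QuotientGroup.mk n) = QuotientGroup.mk (MulAut.conjNormal y n) := fun n => rfl
  let Y' : AddMonoid.End (Additive (N ⧸ Z)) := MonoidHom.toAdditive Y
  have hY'm : ∀ n : N, Y' (Additive.ofMul (QuotientGroup.mk n)) =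
      Additive.ofMul (QuotientGroup.mk (MulAut.conjNormal y n)) := fun n => rfl
  have hYk : ∀ (k : ℕ) (n : N), (Y' ^ k) (Additive.ofMul (QuotientGroup.mk n)) =
      Additive.ofMul (QuotientGroup.mk (MulAut.conjNormal (y ^ k) n)) := by
    intro k
    induction k with
    | zero => intro n; simp
    | succ k ih =>
      intro n
      have h1 : (Y' ^ (k + 1)) (Additive.ofMul (QuotientGroup.mk n)) =
          (Y' ^ k) (Y' (Additive.ofMul (QuotientGroup.mk n))) := by
        rw [pow_succ]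
        rfl
      rw [h1, hY'm, ih, pow_succ, map_mul, MulAut.mul_apply]
  have hY : Y' ^ p = 1 := by
    ext v
    obtain ⟨n, hn⟩ := QuotientGroup.mk_surjective (Additive.toMul v)
    have hv : v = Additive.ofMul (QuotientGroup.mk n) := by rw [hn]; rfl
    rw [hv, hYk, hy, map_one]
    rfl
  have hexp : ∀ v : Additive (N ⧸ Z), p • v = 0 := by
    intro v
    obtain ⟨n, hn⟩ := QuotientGroup.mk_surjective (Additive.toMul v)
    have hv : v = Additive.ofMul (QuotientGroup.mk n) := by rw [hn]; rfl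
    have h1 : n ^ p = 1 := Subtype.ext (exp_N hp2 h hcen n.2)
    rw [hv, ← ofMul_pow, ← QuotientGroup.mk_pow, h1]
    rfl
  have hker : Nat.card (AddMonoidHom.ker (Y' - 1 : AddMonoid.End (Additive (N ⧸ Z)))) ≤ p := by
    have hrep : ∀ v : AddMonoidHom.ker (Y' - 1 : AddMonoid.End (Additive (N ⧸ Z))), ∃ n : N,
        (v : Additive (N ⧸ Z)) = Additive.ofMul (QuotientGroup.mk n) ∧ y * (n : D) * y⁻¹ * (n : D)⁻¹ ∈ zpowers x := by
      intro v
      obtain ⟨n, hn⟩ := QuotientGroup.mk_surjective (Additive.toMul (v : Additive (N ⧸ Z)))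
      have hv : (v : Additive (N ⧸ Z)) = Additive.ofMul (QuotientGroup.mk n) := by rw [hn]; rfl
      refine ⟨n, hv, ?_⟩
      have h1 : (Y' - 1 : AddMonoid.End (Additive (N ⧸ Z))) (v : Additive (N ⧸ Z)) = 0 := v.2
      have h2 : Y' (v : Additive (N ⧸ Z)) = v := sub_eq_zero.1 h1
      rw [hv, hY'm] at h2
      have h3 : (QuotientGroup.mk (MulAut.conjNormal y n) : N ⧸ Z) = QuotientGroup.mk n := h2
      rw [eq_comm, QuotientGroup.eq] at h3
      have h4 := mem_subgroupOf.1 h3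
      have h5 : (n : D)⁻¹ * (y * n * y⁻¹) ∈ zpowers x := by
        have h6 : (((n⁻¹ * MulAut.conjNormal y n : N)) : D) = (n : D)⁻¹ * (y * n * y⁻¹) := by
          rw [coe_mul, hconj, coe_inv]
        rwa [h6] at h4
      have h6 := h.normalZ.conj_mem _ h5 (n : D)
      have e : (n : D) * ((n : D)⁻¹ * (y * n * y⁻¹)) * (n : D)⁻¹ = y * (n : D) * y⁻¹ * (n : D)⁻¹ := by group
      rwa [e] at h6
    choose g hg1 hg2 using hrep
    have h1 : Nat.card (zpowers x) = p := by rw [Nat.card_zpowers, h.ox]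
    rw [← h1]
    refine Nat.card_le_card_of_injective (fun v => (⟨_, hg2 v⟩ : zpowers x)) ?_
    intro v w hvw
    have h2 : y * (g v : D) * y⁻¹ * (g v : D)⁻¹ = y * (g w : D) * y⁻¹ * (g w : D)⁻¹ := congrArg Subtype.val hvw
    have h3 : ((g v : D)⁻¹ * g w) ∈ zpowers x := by
      refine hC _ (N.mul_mem (N.inv_mem (g v).2) (g w).2) ?_
      have h4 : y * ((g v : D)⁻¹ * g w) * y⁻¹ = (g v : D)⁻¹ * g w := by
        calc y * ((g v : D)⁻¹ * g w) * y⁻¹ = (y * (g v : D) * y⁻¹)⁻¹ * (y * (g w : D) * y⁻¹) := by group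
          _ = (y * (g v : D) * y⁻¹ * (g v : D)⁻¹ * (g v : D))⁻¹ * (y * (g w : D) * y⁻¹ * (g w : D)⁻¹ * g w) := by group
          _ = (y * (g w : D) * y⁻¹ * (g w : D)⁻¹ * (g v : D))⁻¹ * (y * (g w : D) * y⁻¹ * (g w : D)⁻¹ * g w) := by
            rw [h2]
          _ = _ := by group
      rw [mul_inv_eq_iff_eq_mul] at h4
      exact h4.symm
    apply Subtype.ext
    rw [hg1 v, hg1 w]
    congr 1
    exact QuotientGroup.eq.2 (mem_subgroupOf.2 h3)
  have h1 := card_le_pow hp.out hp2 hexp hY hker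
  have h2 : Nat.card (Additive (N ⧸ Z)) = Nat.card (N ⧸ Z) := rfl
  have h3 : Nat.card N = Nat.card (N ⧸ Z) * Nat.card Z := card_eq_card_quotient_mul_card_subgroup Z
  have h4 : Nat.card Z = p := by
    rw [Nat.card_congr (subgroupOfEquivOfLe (show zpowers x ≤ N by rw [zpowers_le]; exact h.xN)).toEquiv,
      Nat.card_zpowers, h.ox]
  rw [h3, h4, pow_succ] at hcard
  exact absurd (Nat.mul_le_mul_right p (h2 ▸ h1)) (not_le.2 hcard)

end rad

section zdata

universe u v

open Cfsg.Agent.H867.RC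

variable {G : Type u} [Group G] [Finite G] {p : ℕ} [hp : Fact p.Prime]

omit [Finite G] hp in
theorem zdata_conj {z : G} (h : ZData p z) (c : G) : ZData p (c * z * c⁻¹) := by
  have hback : ∀ {g : G}, g * (c * z * c⁻¹) = c * z * c⁻¹ * g → (c⁻¹ * g * c) * z = z * (c⁻¹ * g * c) := by
    intro g hg
    calc c⁻¹ * g * c * z = c⁻¹ * (g * (c * z * c⁻¹)) * c := by group
      _ = c⁻¹ * (c * z * c⁻¹ * g) * c := by rw [hg]
      _ = _ := by group
  have hev : ∀ {g : G}, Ev (c⁻¹ * g * c) → Ev g := by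
    rintro g ⟨t, ht1, ht2, htg⟩
    refine ⟨c * t * c⁻¹, fun h1 => ht1 (conj_eq_one_iff.1 h1), ?_, ?_⟩
    · calc c * t * c⁻¹ * (c * t * c⁻¹) = c * (t * t) * c⁻¹ := by group
        _ = 1 := by rw [ht2]; group
    · calc c * t * c⁻¹ * g = c * (t * (c⁻¹ * g * c)) * c⁻¹ := by group
        _ = c * (c⁻¹ * g * c * t) * c⁻¹ := by rw [htg]
        _ = _ := by group
  have hmem : ∀ {k : G}, k ∈ zpowers (c * z * c⁻¹) → c⁻¹ * k * c ∈ zpowers z := by
    intro k hk
    obtain ⟨i, rfl⟩ := mem_zpowers_iff.1 hk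
    rw [conj_zpow]
    refine mem_zpowers_iff.2 ⟨i, by group⟩
  refine ⟨by rw [conj_pow, h.zp]; group, fun h1 => h.z1 (conj_eq_one_iff.1 h1), ?_, ?_, ?_⟩
  · apply hev
    have e : c⁻¹ * (c * z * c⁻¹) * c = z := by group
    rw [e]
    exact h.ev
  · intro g hg hgp hne k hk
    obtain ⟨s, hs1, hs2⟩ := h.dich (c⁻¹ * g * c) (hback hg) (by
      have := conj_pow (i := p) (a := c⁻¹) (b := g)
      rw [inv_inv] at this
      rw [this, hgp]; group) (fun h1 => hne (hev h1)) (c⁻¹ * k * c) (hmem hk)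
    refine ⟨c * s * c⁻¹, ?_, ?_⟩
    · calc c * s * c⁻¹ * (c * z * c⁻¹) = c * (s * z) * c⁻¹ := by group
        _ = c * (z * s) * c⁻¹ := by rw [hs1]
        _ = _ := by group
    · calc c * s * c⁻¹ * g * (c * s * c⁻¹)⁻¹ = c * (s * (c⁻¹ * g * c) * s⁻¹) * c⁻¹ := by group
        _ = c * (c⁻¹ * g * c * (c⁻¹ * k * c)) * c⁻¹ := by rw [hs2]
        _ = _ := by group
  · intro y hy hyz
    obtain ⟨e, he, hez, hezz, hey, hec⟩ := h.rk (c⁻¹ * y * c) (by
      have := conj_pow (i := p) (a := c⁻¹) (b := y)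
      rw [inv_inv] at this
      rw [this, hy]; group) (hback hyz)
    refine ⟨c * e * c⁻¹, by rw [conj_pow, he]; group, ?_, ?_, ?_, ?_⟩
    · intro h1
      apply hez
      have h2 := hmem h1
      have e' : c⁻¹ * (c * e * c⁻¹) * c = e := by group
      rwa [e'] at h2
    · calc c * e * c⁻¹ * (c * z * c⁻¹) = c * (e * z) * c⁻¹ := by group
        _ = c * (z * e) * c⁻¹ := by rw [hezz]
        _ = _ := by group
    · calc c * e * c⁻¹ * y = c * (e * (c⁻¹ * y * c)) * c⁻¹ := by group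
        _ = c * (c⁻¹ * y * c * e) * c⁻¹ := by rw [hey]
        _ = _ := by group
    · intro k hk
      apply hev
      have e' : c⁻¹ * (c * e * c⁻¹ * k) * c = e * (c⁻¹ * k * c) := by group
      rw [e']
      exact hec _ (hmem hk)

/-- **`ZData` from `Rad`** -/
theorem zdata (hp2 : p ≠ 2) {x : G} {z' x' : ↥(centralizer ({x} : Set G))} {N : Subgroup ↥(centralizer ({x} : Set G))}
    (hx' : (x' : G) = x) {A : Type v} [Group A] {f : ↥(centralizer ({z'} : Set ↥(centralizer ({x} : Set G)))) →* A}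
    (h : Rad p z' x' N f) (hcen : Cen x' N) (hcard : p ^ (p + 1) < Nat.card N)
    (hev : ∀ n ∈ N, n ≠ 1 → Ev (n : G)) : ZData p x := by
  have hz1 : (z' : G) ≠ 1 := fun h1 => h.z1 (Subtype.ext h1)
  have hz2 : (z' : G) * z' = 1 := congrArg Subtype.val h.zz
  have hxp : x ^ p = 1 := by
    have h1 : x' ^ p = 1 := by rw [← h.ox, pow_orderOf_eq_one]
    rw [← hx']
    exact congrArg Subtype.val h1
  have hmem : ∀ {k : ↥(centralizer ({x} : Set G))}, k ∈ zpowers x' ↔ (k : G) ∈ zpowers x := by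
    intro k
    constructor
    · intro hk
      obtain ⟨i, rfl⟩ := mem_zpowers_iff.1 hk
      exact mem_zpowers_iff.2 ⟨i, by rw [coe_zpow, hx']⟩
    · intro hk
      obtain ⟨i, hi⟩ := mem_zpowers_iff.1 hk
      exact mem_zpowers_iff.2 ⟨i, Subtype.ext (by rw [coe_zpow, hx']; exact hi)⟩
  refine ⟨hxp, ?_, ⟨z', hz1, hz2, mem_centralizer_singleton_iff.1 z'.2⟩, ?_, ?_⟩
  · rintro rfl
    have h1 := h.ox
    rw [show x' = 1 from Subtype.ext hx', orderOf_one] at h1
    exact hp.out.one_lt.ne h1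
  · intro g hg hgp hne k hk
    rcases dich h hp2 hcen ⟨g, mem_centralizer_singleton_iff.2 hg⟩ with ⟨m, hm, hmg⟩ | hj
    · exfalso
      apply hne
      refine ⟨(m : G) * z' * (m : G)⁻¹, fun h1 => hz1 (conj_eq_one_iff.1 h1), ?_, ?_⟩
      · calc (m : G) * z' * (m : G)⁻¹ * ((m : G) * z' * (m : G)⁻¹) = (m : G) * (z' * z') * (m : G)⁻¹ := by group
          _ = 1 := by rw [hz2]; group
      · exact (congrArg Subtype.val hmg).symm
    · obtain ⟨j, rfl⟩ := mem_zpowers_iff.1 hk
      obtain ⟨s, -, hs⟩ := hj j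
      refine ⟨s, mem_centralizer_singleton_iff.1 s.2, ?_⟩
      have h1 := congrArg Subtype.val hs
      have h2 : (s : G) * g * (s : G)⁻¹ = g * (x' : G) ^ j := h1
      rw [hx'] at h2
      exact h2
  · intro y hy hyx
    obtain ⟨e, heN, hex, hey⟩ := exists_e hp2 h hcen hcard
      (y := (⟨y, mem_centralizer_singleton_iff.2 hyx⟩ : ↥(centralizer ({x} : Set G)))) (Subtype.ext hy)
    refine ⟨e, congrArg Subtype.val (exp_N hp2 h hcen heN), fun h1 => hex (hmem.2 h1),
      mem_centralizer_singleton_iff.1 e.2, congrArg Subtype.val hey, ?_⟩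
    intro k hk
    have hkC : k ∈ centralizer ({x} : Set G) := (zpowers_le.2 (mem_centralizer_singleton_iff.2 rfl)) hk
    have h1 : (⟨k, hkC⟩ : ↥(centralizer ({x} : Set G))) ∈ N :=
      (zpowers_le.2 h.xN) (hmem.2 hk)
    by_cases h2 : e * ⟨k, hkC⟩ = 1
    · have h3 : (e : G) * k = 1 := congrArg Subtype.val h2
      rw [h3]
      exact ⟨z', hz1, hz2, by rw [mul_one, one_mul]⟩
    · exact hev _ (N.mul_mem heN h1) h2

/-- from one `p`-central element to all Sylow subgroups -/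
theorem zdata_sylow {x : G} (h : ZData p x)
    (hfull : ∀ k, p ^ k ∣ Nat.card G → p ^ k ∣ Nat.card ↥(centralizer ({x} : Set G))) (P : Sylow p G) :
    ∃ z, (∀ g ∈ P, g * z = z * g) ∧ ZData p z := by
  obtain ⟨S⟩ : Nonempty (Sylow p ↥(centralizer ({x} : Set G))) := inferInstance
  set T : Subgroup G := (S : Subgroup ↥(centralizer ({x} : Set G))).map (centralizer ({x} : Set G)).subtype with hT
  have hTp : IsPGroup p ↥T := S.isPGroup'.map _
  obtain ⟨R, hR⟩ := hTp.exists_le_sylow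
  have hTR : T = R := by
    refine Subgroup.eq_of_le_of_card_ge hR ?_
    obtain ⟨b, hb⟩ := IsPGroup.iff_card.1 R.isPGroup'
    rw [hT, Subgroup.card_map_of_injective (Subgroup.subtype_injective _), hb]
    refine Nat.le_of_dvd Nat.card_pos (S.pow_dvd_card_of_pow_dvd_card (hfull b ?_))
    rw [← hb]
    exact Subgroup.card_subgroup_dvd_card _
  obtain ⟨c, hc⟩ := MulAction.exists_smul_eq G R P
  refine ⟨c * x * c⁻¹, fun g hg => ?_, zdata_conj h c⟩
  have h1 : c⁻¹ * g * c ∈ (R : Subgroup G) := by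
    rw [← hc] at hg
    obtain ⟨r, hr, rfl⟩ := hg
    have e : c⁻¹ * ((MulAut.conj c) r) * c = r := by
      rw [MulAut.conj_apply]
      group
    show c⁻¹ * ((MulAut.conj c) r) * c ∈ (R : Subgroup G)
    rw [e]
    exact hr
  rw [← hTR] at h1
  have h2 := mem_centralizer_singleton_iff.1 (Subgroup.map_subtype_le _ h1)
  calc g * (c * x * c⁻¹) = c * (c⁻¹ * g * c * x) * c⁻¹ := by group
    _ = c * (x * (c⁻¹ * g * c)) * c⁻¹ := by rw [h2]
    _ = _ := by group

end zdata

end Cfsg.Agent.H711.MG
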