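import Cfsg.Agent.H711.MG.ZAbs
import Cfsg.Agent.H740.OreM.ThreeAll
import Cfsg.Agent.H345.IRowM

/-!
# S3509, Monster: `ZData 3 z` for every Sylow 3-subgroup (helper711)
-/

set_option autoImplicit false
set_option maxRecDepth 100000

namespace Cfsg.Agent.H711.MG

open Cfsg Cfsg.Agent.MonsterX Cfsg.Agent.MonsterX.InstData Cfsg.Agent.MonsterX.MainPack Cfsg.Agent.MonsterU
open Cfsg.Agent.MonsterP Cfsg.Agent.MonsterN Cfsg.Agent.LThreeMB
open Cfsg.Agent.MonsterX.MainBasic Cfsg.Agent.MonsterX.MainSimple Cfsg.Agent.MonsterX.Model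
open Cfsg.Agent.MonsterU.Lam2 Cfsg.Agent.MonsterU.TwoCls
open Cfsg.Agent.BpSpor.MBigModel Cfsg.Agent.H199.NSmMon Cfsg.Agent.H31.TwoCyc.MPart
open Cfsg.Agent.BpSpor.M5 Cfsg.Agent.H740.OreM.Dich
open Cfsg.Spor (Co1)
open Subgroup (centralizer zpowers mem_centralizer_singleton_iff)

/-- **elements of order 3 of the radical of `C(x)`** -/
theorem ev_three {x : centralizer ({zz} : Set MG)} (hx : orderOf x = 3) (hfr : fr (pi x) = 1)
    {n : ↥(centralizer ({(x : MG)} : Set MG))} (hn : n ^ 3 = 1)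
    (hr : n ∈ Cfsg.solvableRadical ↥(centralizer ({(x : MG)} : Set MG))) : H867.RC.Ev (n : MG) := by
  have := BpSpor.MBigModel.finite
  have hxo : orderOf (x : MG) = 3 := by rw [Subgroup.orderOf_coe, hx]
  have htr := KPair.trNe KDone.lft LThreeB.Row.cent (LThreeMBTr.traceNe KDone.lft LThreeMBTr.TensK.tens)
  have hDat := Cfsg.Agent.BpSpor.MThree.dat_zero KDone.lft LThreeB.Row.cent htr hx hfr
    (CoOneFin.coOne.suz (pi x) (orderOf_pi chart hx) hfr)
  obtain ⟨s, hs2, hs1, hsy⟩ := Cfsg.Agent.H345.MOrb.exists_inv hDat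
    (Cfsg.Agent.BpSpor.BThree.not_nine chart hx hfr)
    (fun h1 => by
      have h2 := h1.trans (Subgroup.card_subgroup_dvd_card _)
      rw [card_M] at h2
      revert h2
      norm_num)
    (x₀ := (⟨(x : MG), mem_centralizer_singleton_iff.2 rfl⟩ : ↥(centralizer ({(x : MG)} : Set MG))))
    (by rw [Subgroup.orderOf_mk]; exact hxo)
    (fun d => Subtype.ext (mem_centralizer_singleton_iff.1 d.2)) (y := n) hn hr
  exact ⟨s, fun h1 => hs1 (Subtype.ext h1), congrArg Subtype.val hs2, congrArg Subtype.val hsy⟩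

/-- **`ZData` for the elements of order 3 of fixed rank 0** -/
theorem zdata_three {x : centralizer ({zz} : Set MG)} (hx : orderOf x = 3) (hfr : fr (pi x) = 1) :
    H867.RC.ZData 3 (x : MG) := by
  have := BpSpor.MBigModel.finite
  have hp : Fact (Nat.Prime 3) := ⟨Nat.prime_three⟩
  obtain ⟨N, hN, hcen, hs, hns⟩ := H740.OreM.Threes.exists_D H740.OreM.ThreeAll.l11 hx hfr
  have hsuz := CoOneFin.coOne.suz (pi x) (orderOf_pi chart hx) hfr
  have hc : Nat.card (XX (pi x)) = 448345497600 := by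
    obtain ⟨e⟩ := hsuz
    rw [Nat.card_congr e.toEquiv, Cfsg.Agent.S1694.result.2]
  obtain ⟨m, hm, hcm⟩ := hN.card_N_mul hns
  rw [hc] at hcm
  have h20 := H740.OreM.Threes.full_of hx hfr 20 (by rw [card_M]; norm_num)
  have h13 : 3 ^ 13 ∣ Nat.card ↥N := by
    have h1 : 3 ^ 7 * 3 ^ 13 ∣ 3 ^ 7 * (Nat.card ↥N * (205004800 * m)) := by
      have e1 : 3 ^ 7 * (Nat.card ↥N * (205004800 * m)) = Nat.card ↥N * (448345497600 * m) := by ring
      rw [e1, ← hcm]
      exact h20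
    have h2 : 3 ^ 13 ∣ Nat.card ↥N * (205004800 * m) := Nat.dvd_of_mul_dvd_mul_left (by norm_num) h1
    refine Nat.Coprime.dvd_of_dvd_mul_right ?_ h2
    refine Nat.Coprime.pow_left 13 ((Nat.Prime.coprime_iff_not_dvd Nat.prime_three).2 ?_)
    intro h3
    rcases (Nat.Prime.dvd_mul Nat.prime_three).1 h3 with h4 | h4
    · norm_num at h4
    · exact absurd (h4.trans hm) (by norm_num)
  refine zdata (by norm_num) (x' := self (x : MG)) rfl hN hcen ?_ ?_
  · exact lt_of_lt_of_le (by norm_num) (Nat.le_of_dvd Nat.card_pos h13)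
  · intro n hn _
    refine ev_three hx hfr (exp_N (by norm_num) hN hcen hn) ?_
    have h1 : N ≤ Cfsg.solvableRadical ↥(centralizer ({(x : MG)} : Set MG)) :=
      le_sSup ⟨hN.nN, Cfsg.Agent.S0205.result hN.oN⟩
    exact h1 hn

/-- **Z3** -/
theorem zdata_sylow_three (P : Sylow 3 MG) : ∃ z, (∀ g ∈ P, g * z = z * g) ∧ H867.RC.ZData 3 z := by
  have := BpSpor.MBigModel.finite
  have hp : Fact (Nat.Prime 3) := ⟨Nat.prime_three⟩
  obtain ⟨x, hx, hfr, hf⟩ := exists_full3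
  exact zdata_sylow (zdata_three hx hfr) hf P

end Cfsg.Agent.H711.MG
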